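/-
A bound on a subgroup of a tabulated group preserving a set of points.
-/
import Cfsg.Agent.Lib.PermChain.Closed

set_option autoImplicit false

namespace CfsgPC

open Equiv

/-- The transversal points a subgroup preserving `F` can reach, level by level. -/
def keepBound (n : ℕ) (F : List ℕ) : List Level → ℕ
  | [] => 1
  | L :: ls =>
    (if F.contains L.base then ((List.range L.tr.length).filter fun k => F.contains (L.pt k)).length
      else L.tr.length) * keepBound n F ls

theorem card_le_keepBound {n : ℕ} (F : List ℕ) : ∀ {ls : List Level} {gens : List ℕ}, TableOK n ls gens →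
    Valid n gens → n ≤ 512 → ∀ H : Subgroup (Perm (Fin n)), (H : Set (Perm (Fin n))) ⊆ prodSet n ls →
      (∀ g ∈ H, ∀ i : Fin n, (i : ℕ) ∈ F → (g i : ℕ) ∈ F) → Nat.card H ≤ keepBound n F ls := by
  intro ls gens h
  induction h with
  | nil gens =>
    intro _ _ H hH _
    have hb : H = ⊥ := (Subgroup.eq_bot_iff_forall H).mpr fun g hg => hH hg
    simp [hb, keepBound]
  | @cons L ls gens hb hlen hent hsel hrest ih =>
    intro hv hn H hH hF
    classical
    obtain ⟨hnv, hnle⟩ := level_next hn hv hb hent hsel
    have hrec := ih hnv hn (H ⊓ MulAction.stabilizer (Perm (Fin n)) (⟨L.base, hb⟩ : Fin n)) (fun g hg => by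
      obtain ⟨hgH, hfix⟩ := hg
      obtain ⟨k, hk, T, hT, y, hy, rfl⟩ := hH hgH
      obtain ⟨T', -, hr, -, hTb, hpos⟩ := level_entry hv hb hent k hk
      obtain rfl := hT.unique hr
      obtain ⟨T0, -, hr0, -, hT0b, hpos0⟩ := level_entry hv hb hent 0 hlen
      have hyfix : y ⟨L.base, hb⟩ = ⟨L.base, hb⟩ := (hnle ((table_products hn hrest hnv).1 hy)).2
      have e0 : T0 = 1 := by
        have h0 := hent 0 hlen
        simp only [entryOK, Nat.beq_refl, if_true, Bool.and_eq_true, List.all_eq_true, List.mem_range] at h0
        exact hr0.unique fun i => by rw [Nat.eq_of_beq_eq_true (h0.2 i i.2)]; rfl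
      have hk0 : k = 0 := by
        have hfix' : (T * y) ⟨L.base, hb⟩ = ⟨L.base, hb⟩ := hfix
        rw [Perm.mul_apply, hyfix] at hfix'
        have h1 : L.pt k = L.base := by rw [← hTb, hfix']
        have h2 : L.pt 0 = L.base := by rw [← hT0b, e0]; rfl
        rw [← hpos, h1, ← h2, hpos0]
      subst hk0
      rw [hr.unique hr0, e0, one_mul]
      exact hy) (fun g hg => hF g hg.1)
    have hmul := (MulAction.stabilizer H (⟨L.base, hb⟩ : Fin n)).card_mul_index
    rw [MulAction.index_stabilizer] at hmul
    have he : Nat.card (MulAction.stabilizer H (⟨L.base, hb⟩ : Fin n)) =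
        Nat.card (H ⊓ MulAction.stabilizer (Perm (Fin n)) (⟨L.base, hb⟩ : Fin n) : Subgroup (Perm (Fin n))) :=
      Nat.card_congr
        { toFun := fun g => ⟨g.1.1, g.1.2, g.2⟩
          invFun := fun g => ⟨⟨g.1, g.2.1⟩, g.2.2⟩
          left_inv := fun g => rfl
          right_inv := fun g => rfl }
    have horb : (MulAction.orbit H (⟨L.base, hb⟩ : Fin n)).ncard ≤
        if F.contains L.base then ((List.range L.tr.length).filter fun k => F.contains (L.pt k)).length
        else L.tr.length := by
      have hpt : ∀ x ∈ MulAction.orbit H (⟨L.base, hb⟩ : Fin n), ∃ k < L.tr.length, (x : ℕ) = L.pt k ∧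
          (F.contains L.base = true → F.contains (L.pt k) = true) := by
        rintro x ⟨⟨g, hg⟩, rfl⟩
        obtain ⟨k, hk, T, hT, y, hy, hgy⟩ := hH hg
        obtain ⟨T', -, hr, -, hTb, -⟩ := level_entry hv hb hent k hk
        obtain rfl := hT.unique hr
        have hyfix : y ⟨L.base, hb⟩ = ⟨L.base, hb⟩ := (hnle ((table_products hn hrest hnv).1 hy)).2
        have hx : (g ⟨L.base, hb⟩ : ℕ) = L.pt k := by rw [hgy, Perm.mul_apply, hyfix, hTb]
        refine ⟨k, hk, hx, fun hbF => ?_⟩
        rw [List.contains_iff_mem] at hbF ⊢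
        rw [← hx]
        exact hF g hg _ hbF
      rw [← Set.ncard_image_of_injective _ Fin.val_injective]
      split
      · rename_i hbF
        have hsub : (Fin.val '' MulAction.orbit H (⟨L.base, hb⟩ : Fin n)) ⊆
            ↑((((List.range L.tr.length).filter fun k => F.contains (L.pt k)).map L.pt).toFinset) := by
          rintro _ ⟨x, hx, rfl⟩
          obtain ⟨k, hk, e, hkF⟩ := hpt x hx
          simp only [List.coe_toFinset, Set.mem_setOf_eq, List.mem_map, List.mem_filter, List.mem_range]
          exact ⟨k, ⟨hk, hkF hbF⟩, e.symm⟩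
        refine (Set.ncard_le_ncard hsub (Finset.finite_toSet _)).trans ?_
        rw [Set.ncard_coe_finset]
        exact (List.toFinset_card_le _).trans_eq (List.length_map ..)
      · have hsub : (Fin.val '' MulAction.orbit H (⟨L.base, hb⟩ : Fin n)) ⊆
            ↑(((List.range L.tr.length).map L.pt).toFinset) := by
          rintro _ ⟨x, hx, rfl⟩
          obtain ⟨k, hk, e, -⟩ := hpt x hx
          simp only [List.coe_toFinset, Set.mem_setOf_eq, List.mem_map, List.mem_range]
          exact ⟨k, hk, e.symm⟩
        refine (Set.ncard_le_ncard hsub (Finset.finite_toSet _)).trans ?_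
        rw [Set.ncard_coe_finset]
        exact (List.toFinset_card_le _).trans_eq (by rw [List.length_map, List.length_range])
    rw [he] at hmul
    rw [keepBound, ← hmul, mul_comm]
    exact Nat.mul_le_mul horb hrec

end CfsgPC
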