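/-
Evaluations for the involutions of McL.
-/
import Cfsg.Agent.Lib.McLInvol.Data
import Cfsg.Agent.Lib.McLInvol.Bound
import Cfsg.Agent.Lib.Leech.McLPermData

set_option autoImplicit false

namespace CfsgLib.McLInvol

open CfsgPC CfsgLeech.Models

/-- The bases of the table of McL. -/
def bs : List ℕ := [9, 13, 27, 79, 18, 0]

/-- The element numbered `2 a + b` of the Sylow group at a point. -/
def ev (m i : ℕ) : ℕ :=
  ap ((sylChain.getD 0 ⟨0, [], [], []⟩).tc (m / 2)) (ap ((sylChain.getD 1 ⟨0, [], [], []⟩).tc (m % 2)) i)

/-- A certificate that such an element is not an involution or is conjugate to the representative. -/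
def invB (m : ℕ) : Bool :=
  let c := invCert.getD m 0
  if Nat.beq c 0 then (bs.any fun i => !Nat.beq (ev m (ev m i)) i) || bs.all fun i => Nat.beq (ev m i) i
  else
    let d := invConj.getD (c - 1) (0, 0)
    isPerm 275 d.1 d.2 && sift 275 fixChain d.1 && bs.all fun i => Nat.beq (ap d.1 (ev m i)) (ap invT.1 (ap d.1 i))

/-- The action of a centralising generator on the fixed points agrees with its code. -/
def imB (j : ℕ) : Bool :=
  (List.range 35).all fun i =>
    Nat.beq (ap (centGens.getD j (0, 0)).1 (fixPts.getD i 0)) (fixPts.getD (ap (imGens.getD j (0, 0)).1 i) 0)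

/-- A half of a bisection is sent to a half of the image bisection. -/
def bisB (j i : ℕ) : Bool :=
  let img := (bisect.getD i []).map fun a => (eightGens.getD j []).getD a 0
  let tgt := bisect.getD (ap (imGens.getD j (0, 0)).1 i) []
  (img.all fun a => tgt.contains a) || img.all fun a => !tgt.contains a

end CfsgLib.McLInvol
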