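/-
Kernel checks for the involutions of McL.
-/
import Cfsg.Agent.Lib.McLInvol.Defs

set_option autoImplicit false
set_option maxRecDepth 100000
set_option maxHeartbeats 4000000

namespace CfsgLib.McLInvol

open CfsgPC CfsgLeech.Models

theorem fix_shape : shapeOK 275 fixChain mclRigid.gens = true ∧ fixChain.map Level.base = bs ∧
    (fixChain.map fun L => L.tr.length) = [275, 162, 56, 36, 5, 2] ∧ sizeOfChain fixChain = 898128000 := by
  decide +kernel

theorem fix_entries : ((List.range 6).all fun j => entriesOK 275 fixChain mclRigid.gens j 0
    ([275, 162, 56, 36, 5, 2].getD j 0)) = true := by decide +kernel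

theorem fix_bound : keepBound 275 fixPts fixChain = 40320 := by decide +kernel

theorem fixPts_ok : fixPts.length = 35 ∧ fixPts.Nodup ∧ (fixPts.all fun i => Nat.blt i 275) = true ∧
    ((List.range 275).all fun i => (Nat.beq (ap invT.1 i) i) == fixPts.contains i) = true := by decide +kernel

theorem invT_ok : isPerm 275 invT.1 invT.2 = true ∧ sift 275 fixChain invT.1 = true ∧
    (List.range 275).all (fun i => Nat.beq (ap invT.1 (ap invT.1 i)) i) = true := by decide +kernel

theorem syl_gens : (sylGens.all fun c => isPerm 275 c.1 c.2 && sift 275 fixChain c.1) = true := by decide +kernel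

theorem syl_shape : shapeOK 275 sylChain (sylGens.map Prod.fst) = true ∧
    (sylChain.map fun L => L.tr.length) = [64, 2] ∧ sizeOfChain sylChain = 128 := by decide +kernel

theorem syl_entries : ((List.range 2).all fun j => entriesOK 275 sylChain (sylGens.map Prod.fst) j 0
    ([64, 2].getD j 0)) = true := by decide +kernel

theorem syl_closed : ((List.range 2).all fun j => closedOK 275 sylChain (sylGens.map Prod.fst) j 0
    ([64, 2].getD j 0)) = true ∧
    ((gensAt 275 sylChain (sylGens.map Prod.fst) 2).all fun c => (List.range 275).all fun i => Nat.beq (ap c i) i) =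
      true := by decide +kernel

theorem syl_perms : ((List.range 2).all fun l => (List.range ([64, 2].getD l 0)).all fun k =>
    isPerm 275 ((sylChain.getD l ⟨0, [], [], []⟩).tc k) ((sylChain.getD l ⟨0, [], [], []⟩).ti k)) = true := by
  decide +kernel

theorem inv_ok : ((List.range 128).all invB) = true := by decide +kernel

theorem cent_ok : (centGens.all fun c => isPerm 275 c.1 c.2 && sift 275 fixChain c.1 &&
    (List.range 275).all fun i => Nat.beq (ap c.1 (ap invT.1 i)) (ap invT.1 (ap c.1 i))) = true ∧
    centGens.length = 2 ∧ imGens.length = 2 := by decide +kernel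

theorem root_ok : isPerm 275 rootT.1 rootT.2 = true ∧ sift 275 fixChain rootT.1 = true ∧
    (List.range 275).all (fun i => Nat.beq (ap rootT.1 (ap rootT.1 i)) (ap invT.1 i)) = true := by decide +kernel

theorem im_gens : (imGens.all fun c => isPerm 35 c.1 c.2) = true := by decide +kernel

theorem im_ok : ((List.range 2).all imB) = true := by decide +kernel

theorem im_shape : shapeOK 35 imChain (imGens.map Prod.fst) = true ∧
    (imChain.map fun L => L.tr.length) = [35, 18, 4, 4, 2] ∧ sizeOfChain imChain = 20160 := by decide +kernel

theorem im_entries : ((List.range 5).all fun j => entriesOK 35 imChain (imGens.map Prod.fst) j 0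
    ([35, 18, 4, 4, 2].getD j 0)) = true := by decide +kernel

theorem bisect_ok : ((List.range 35).all fun i => (bisect.getD i []).all (fun a => Nat.blt a 8) &&
    (bisect.getD i []).contains 0 &&
    (List.range i).all fun j => !((List.range 8).all fun a => (bisect.getD i []).contains a == (bisect.getD j []).contains a)) =
      true := by decide +kernel

theorem bisect_move : ((List.range 2).all fun j => (List.range 35).all fun i => bisB j i) = true := by decide +kernel

end CfsgLib.McLInvol
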