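/-
The group on the 35 fixed points is the alternating group of degree eight.
-/
import Cfsg.Agent.Lib.McLInvol.Checks
import Cfsg.Agent.Lib.PermChain.Model

set_option autoImplicit false
set_option maxRecDepth 30000

namespace CfsgLib.McLInvol

open Equiv CfsgPC
open scoped Pointwise

/-- The first generator on eight points. -/
def eightA : Perm (Fin 8) :=
  ⟨![1, 2, 6, 0, 7, 4, 3, 5], ![3, 0, 1, 6, 5, 7, 2, 4], by decide, by decide⟩

/-- The second generator on eight points. -/
def eightB : Perm (Fin 8) :=
  ⟨![3, 0, 7, 4, 5, 2, 6, 1], ![1, 7, 5, 0, 3, 4, 6, 2], by decide, by decide⟩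

theorem eight_even : Perm.sign eightA = 1 ∧ Perm.sign eightB = 1 := by decide +kernel

theorem eight_val : (∀ a : Fin 8, (eightA a : ℕ) = (eightGens.getD 0 []).getD a 0) ∧
    ∀ a : Fin 8, (eightB a : ℕ) = (eightGens.getD 1 []).getD a 0 := by decide +kernel

attribute [local irreducible] bisect eightGens imGens imChain

/-- The half through zero of a bisection. -/
def half (i : Fin 35) : Finset (Fin 8) := Finset.univ.filter fun a => (bisect.getD i []).contains (a : ℕ)

/-- A bisection. -/
def bisX (i : Fin 35) : Finset (Finset (Fin 8)) := {half i, (half i)ᶜ}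

theorem bisX_injective : Function.Injective bisX := by
  intro i j h
  have h0 : ∀ k : Fin 35, (0 : Fin 8) ∈ half k := fun k => by
    have h := List.all_eq_true.mp bisect_ok k (List.mem_range.mpr k.2)
    simp only [Bool.and_eq_true] at h
    exact Finset.mem_filter.mpr ⟨Finset.mem_univ _, h.1.2⟩
  have hij : half i = half j := by
    have hm : half i ∈ bisX j := h ▸ Finset.mem_insert_self _ _
    rcases Finset.mem_insert.mp hm with e | e
    · exact e
    · have := h0 i
      rw [Finset.mem_singleton.mp e, Finset.mem_compl] at this
      exact absurd (h0 j) this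
  have key : ∀ a b : Fin 35, (b : ℕ) < a → half a = half b → False := fun a b hlt he => by
    have h := List.all_eq_true.mp bisect_ok a (List.mem_range.mpr a.2)
    simp only [Bool.and_eq_true] at h
    have hd := List.all_eq_true.mp h.2 b (List.mem_range.mpr hlt)
    rw [Bool.not_eq_true', ← Bool.not_eq_true, List.all_eq_true] at hd
    refine hd fun k hk => ?_
    have hm := Finset.ext_iff.mp he ⟨k, List.mem_range.mp hk⟩
    simp only [half, Finset.mem_filter, Finset.mem_univ, true_and] at hm
    rw [beq_iff_eq, Bool.eq_iff_iff]
    exact hm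
  rcases Nat.lt_trichotomy (i : ℕ) j with h' | h' | h'
  · exact (key j i h' hij.symm).elim
  · exact Fin.ext h'
  · exact (key i j h' hij).elim

theorem im_valid : Valid 35 (imGens.map Prod.fst) := fun c hc => by
  obtain ⟨d, hd, rfl⟩ := List.mem_map.mp hc
  exact ⟨_, decP_rep (List.all_eq_true.mp im_gens d hd)⟩

theorem im_table : TableOK 35 imChain (imGens.map Prod.fst) := by
  obtain ⟨hs, hlens, -⟩ := im_shape
  refine tableOK_of_checks hs fun j hj k hk => ?_
  have hl : imChain.length = 5 := by simpa using congrArg List.length hlens
  refine of_entriesOK (List.all_eq_true.mp im_entries j (List.mem_range.mpr (hl ▸ hj))) (Nat.zero_le _) ?_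
  rw [← hlens, List.getD_eq_getElem _ _ (by simpa using hj), List.getElem_map]
  rwa [List.getD_eq_getElem _ _ hj] at hk

theorem im_ge : 20160 ≤ Nat.card (genG 35 (imGens.map Prod.fst)) := by
  obtain ⟨hsub, hc⟩ := table_products (by norm_num) im_table im_valid
  rw [← im_shape.2.2, ← hc, ← Nat.card_coe_set_eq]
  exact Nat.card_mono (Set.toFinite _) hsub

theorem eight_iso : Nonempty (↥(alternatingGroup (Fin 8)) ≃* genG 35 (imGens.map Prod.fst)) := by
  refine exists_model bisX_injective (fun c hc => ?_) (le_trans ?_ im_ge)
  · obtain ⟨j, hj, rfl⟩ := List.getElem_of_mem hc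
    obtain ⟨q, hq⟩ := im_valid _ hc
    rw [List.length_map] at hj
    have hj2 : j < 2 := cent_ok.2.2 ▸ hj
    rw [List.getElem_map, ← List.getD_eq_getElem (d := (0, 0)) _ hj] at hq ⊢
    have hmain : ∀ (e : Perm (Fin 8)) (he : Perm.sign e = 1),
        (∀ a : Fin 8, (e a : ℕ) = (eightGens.getD j []).getD a 0) →
        ∀ i, (⟨e, Perm.mem_alternatingGroup.mpr he⟩ : alternatingGroup (Fin 8)) • bisX i = bisX (q i) := by
      intro e he hev i
      have hb := List.all_eq_true.mp (List.all_eq_true.mp bisect_move j (List.mem_range.mpr hj2)) i
        (List.mem_range.mpr i.2)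
      have hlt := List.all_eq_true.mp bisect_ok i (List.mem_range.mpr i.2)
      simp only [Bool.and_eq_true, List.all_eq_true, Nat.blt_eq] at hlt
      simp only [bisB, Bool.or_eq_true, List.all_eq_true, List.mem_map, forall_exists_index, and_imp,
        forall_apply_eq_imp_iff₂, hq i] at hb
      have himg : (half i).image e ⊆ half (q i) ∨ (half i).image e ⊆ (half (q i))ᶜ := by
        rcases hb with hb | hb
        · refine Or.inl fun x hx => ?_
          obtain ⟨a, ha, rfl⟩ := Finset.mem_image.mp hx
          simp only [half, Finset.mem_filter, Finset.mem_univ, true_and] at ha ⊢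
          rw [List.contains_iff_mem] at ha
          rw [hev a]
          exact hb a ha
        · refine Or.inr fun x hx => ?_
          obtain ⟨a, ha, rfl⟩ := Finset.mem_image.mp hx
          simp only [half, Finset.mem_compl, Finset.mem_filter, Finset.mem_univ, true_and] at ha ⊢
          rw [List.contains_iff_mem] at ha
          rw [hev a]
          intro h
          have := hb a ha
          rw [h] at this
          exact Bool.noConfusion this
      have h4 : ∀ k : Fin 35, (half k).card = 4 := half_card
      show (⟨e, Perm.mem_alternatingGroup.mpr he⟩ : alternatingGroup (Fin 8)) • bisX i = _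
      have hact : ∀ s : Finset (Fin 8), (⟨e, Perm.mem_alternatingGroup.mpr he⟩ : alternatingGroup (Fin 8)) • s = s.image e :=
        fun s => rfl
      have himgc : (half i)ᶜ.image e = ((half i).image e)ᶜ := by
        ext x
        simp only [Finset.mem_image, Finset.mem_compl]
        constructor
        · rintro ⟨a, ha, rfl⟩ ⟨b, hb, hab⟩
          exact ha (e.injective hab ▸ hb)
        · intro h
          exact ⟨e.symm x, fun hm => h ⟨_, hm, e.apply_symm_apply x⟩, e.apply_symm_apply x⟩
      rw [bisX, Finset.smul_finset_insert, Finset.smul_finset_singleton, hact, hact, himgc, bisX]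
      rcases himg with h | h
      · rw [Finset.eq_of_subset_of_card_le h (by rw [h4, Finset.card_image_of_injective _ e.injective, h4])]
      · rw [Finset.eq_of_subset_of_card_le h (by
          rw [Finset.card_compl, h4, Finset.card_image_of_injective _ e.injective, h4, Fintype.card_fin]),
          compl_compl, Finset.pair_comm]
    interval_cases j
    · exact ⟨_, q, hq, hmain eightA eight_even.1 eight_val.1⟩
    · exact ⟨_, q, hq, hmain eightB eight_even.2 eight_val.2⟩
  · rw [nat_card_alternatingGroup, Nat.card_fin]
    decide
where
  half_card : ∀ k : Fin 35, (half k).card = 4 := by decide +kernel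

end CfsgLib.McLInvol
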