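/-
McL has one class of involutions, with centraliser a non-split double cover of A8.
-/
import Cfsg.Agent.Lib.McLInvol.Eight
import Cfsg.Agent.Lib.Leech.McLModel
import Cfsg.Agent.Lib.PermChain.Eval
import Cfsg.Prelude.Def_SporadicB

set_option autoImplicit false
set_option maxRecDepth 30000
set_option maxHeartbeats 1000000
set_option linter.style.haveILetI false

namespace CfsgLib.McLInvol

open Equiv Subgroup CfsgPC CfsgLeech CfsgLeech.Models

attribute [local irreducible] mclChain mclSlp mclCodes fixChain sylGens sylChain invT invConj invCert centGens rootT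
  fixPts imGens imChain bisect eightGens

/-- The group on 275 points. -/
noncomputable abbrev McLP : Subgroup (Perm (Fin 275)) := genG 275 mclRigid.gens

theorem fix_table : TableOK 275 fixChain mclRigid.gens := by
  obtain ⟨hs, -, hlens, -⟩ := fix_shape
  refine tableOK_of_checks hs fun j hj k hk => ?_
  have hl : fixChain.length = 6 := by simpa using congrArg List.length hlens
  refine of_entriesOK (List.all_eq_true.mp fix_entries j (List.mem_range.mpr (hl ▸ hj))) (Nat.zero_le _) ?_
  rw [← hlens, List.getD_eq_getElem _ _ (by simpa using hj), List.getElem_map]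
  rwa [List.getD_eq_getElem _ _ hj] at hk

theorem mclP_valid : Valid 275 mclRigid.gens := mcl_model.1

theorem mclP_card : Nat.card McLP = 898128000 := by
  obtain ⟨-, hgood, -⟩ := mcl_model
  exact hgood.card.trans mcl_size

theorem fix_prod : prodSet 275 fixChain = McLP :=
  (table_eq (by norm_num) fix_table mclP_valid (le_of_eq (mclP_card.trans fix_shape.2.2.2.symm))).1

theorem mem_sift {c ci : ℕ} (h : isPerm 275 c ci = true) (hs : sift 275 fixChain c = true) :
    decP 275 c ∈ McLP := mem_of_sift (by norm_num) fix_table mclP_valid _ _ (decP_rep h) hs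

theorem agree {g h : Perm (Fin 275)} (hg : g ∈ McLP) (hh : h ∈ McLP) (e : ∀ i : Fin 275, (i : ℕ) ∈ bs → g i = h i) :
    g = h := by
  have hlen : fixChain.length = bs.length := by rw [← fix_shape.2.1, List.length_map]
  have key : ∀ f ∈ McLP, (∀ i : Fin 275, (i : ℕ) ∈ bs → f i = g i) →
      ∃ c, liftC 275 fixChain (bs.map fun b => if hb : b < 275 then (g ⟨b, hb⟩ : ℕ) else 0) = some c ∧ Rep 275 c f := by
    intro f hf hfe
    refine lift_sound (by norm_num) fix_table mclP_valid f (by rw [fix_prod]; exact hf) _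
      (by rw [List.length_map, hlen]) ?_
    intro j hj b hb
    rw [fix_shape.2.1, List.getD_eq_getElem _ _ (hlen ▸ hj)] at hb
    rw [List.getD_eq_getElem _ _ (by rw [List.length_map, ← hlen]; exact hj), List.getElem_map, ← hb, dif_pos b.2,
      hfe b (hb ▸ List.getElem_mem _)]
  obtain ⟨c, hc, hcg⟩ := key g hg fun _ _ => rfl
  obtain ⟨d, hd, hdh⟩ := key h hh fun i hi => (e i hi).symm
  obtain rfl := Option.some.inj (hc.symm.trans hd)
  exact hcg.unique hdh

/-- The representative involution. -/
noncomputable def tau : McLP := ⟨decP 275 invT.1, mem_sift invT_ok.1 invT_ok.2.1⟩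

theorem tau_ap (i : Fin 275) : ap invT.1 i = (tau.1 i : ℕ) := decP_rep invT_ok.1 i

theorem tau_fix (i : Fin 275) : (i : ℕ) ∈ fixPts ↔ tau.1 i = i := by
  have h := List.all_eq_true.mp fixPts_ok.2.2.2 i (List.mem_range.mpr i.2)
  rw [beq_iff_eq, tau_ap] at h
  rw [← List.contains_iff_mem, ← h, Fin.ext_iff]
  exact ⟨Nat.eq_of_beq_eq_true, fun e => by rw [e]; exact Nat.beq_refl _⟩

theorem tau_sq : tau * tau = 1 := Subtype.ext (Equiv.ext fun i => Fin.ext (by
  show (tau.1 (tau.1 i) : ℕ) = i
  rw [← tau_ap, ← tau_ap]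
  exact Nat.eq_of_beq_eq_true (List.all_eq_true.mp invT_ok.2.2 i (List.mem_range.mpr i.2))))

/-- The Sylow group on 275 points. -/
noncomputable abbrev SylTwo : Subgroup (Perm (Fin 275)) := genG 275 (sylGens.map Prod.fst)

theorem syl_valid : Valid 275 (sylGens.map Prod.fst) := fun c hc => by
  obtain ⟨d, hd, rfl⟩ := List.mem_map.mp hc
  have := List.all_eq_true.mp syl_gens d hd
  rw [Bool.and_eq_true] at this
  exact ⟨_, decP_rep this.1⟩

theorem syl_le : SylTwo ≤ McLP := by
  rw [SylTwo, genG, Subgroup.closure_le]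
  rintro g ⟨c, hc, hg⟩
  obtain ⟨d, hd, rfl⟩ := List.mem_map.mp hc
  have := List.all_eq_true.mp syl_gens d hd
  rw [Bool.and_eq_true] at this
  exact mem_of_sift (by norm_num) fix_table mclP_valid _ _ hg this.2

theorem syl_table : TableOK 275 sylChain (sylGens.map Prod.fst) := by
  obtain ⟨hs, hlens, -⟩ := syl_shape
  refine tableOK_of_checks hs fun j hj k hk => ?_
  have hl : sylChain.length = 2 := by simpa using congrArg List.length hlens
  refine of_entriesOK (List.all_eq_true.mp syl_entries j (List.mem_range.mpr (hl ▸ hj))) (Nat.zero_le _) ?_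
  rw [← hlens, List.getD_eq_getElem _ _ (by simpa using hj), List.getElem_map]
  rwa [List.getD_eq_getElem _ _ hj] at hk

theorem syl_eq : prodSet 275 sylChain = SylTwo ∧ Nat.card SylTwo = 128 := by
  obtain ⟨-, hlens, hsz⟩ := syl_shape
  have hl : sylChain.length = 2 := by simpa using congrArg List.length hlens
  have he : prodSet 275 sylChain = SylTwo := by
    refine table_closed (by norm_num) syl_table syl_valid (fun j hj k hk => ?_) fun c hc i hi => ?_
    · refine of_closedOK (List.all_eq_true.mp syl_closed.1 j (List.mem_range.mpr (hl ▸ hj))) (Nat.zero_le _) ?_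
      rw [← hlens, List.getD_eq_getElem _ _ (by simpa using hj), List.getElem_map]
      rwa [List.getD_eq_getElem _ _ hj] at hk
    · rw [hl] at hc
      exact Nat.eq_of_beq_eq_true (List.all_eq_true.mp (List.all_eq_true.mp syl_closed.2 c hc) i (List.mem_range.mpr hi))
  exact ⟨he, by rw [← hsz, ← (table_products (by norm_num) syl_table syl_valid).2, he, ← Nat.card_coe_set_eq]; rfl⟩

theorem syl_inv {x : Perm (Fin 275)} (hx : x ∈ SylTwo) (h2 : x * x = 1) (h1 : x ≠ 1) :
    ∃ t ∈ McLP, t * x = tau.1 * t := by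
  have hmem : x ∈ prodSet 275 sylChain := by rw [syl_eq.1]; exact hx
  obtain ⟨-, hlens, -⟩ := syl_shape
  rcases hsub : sylChain with _ | ⟨L0, _ | ⟨L1, _ | ⟨L2, t⟩⟩⟩ <;> rw [hsub] at hlens <;> simp at hlens
  obtain ⟨h0, h1'⟩ := hlens
  rw [hsub] at hmem
  obtain ⟨a, ha, T0, hT0, y, ⟨b, hb, T1, hT1, w, hw, rfl⟩, rfl⟩ := hmem
  obtain rfl : w = 1 := hw
  rw [mul_one] at h2 h1 hx ⊢
  have hev : ∀ i : Fin 275, ev (2 * a + b) i = ((T0 * T1) i : ℕ) := fun i => by
    rw [ev, show (2 * a + b) / 2 = a by omega, show (2 * a + b) % 2 = b by omega, hsub]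
    show ap (L0.tc a) (ap (L1.tc b) i) = _
    rw [hT1 i, hT0 (T1 i)]
    rfl
  have hbs : ∀ i ∈ bs, i < 275 := by decide
  have h := List.all_eq_true.mp inv_ok (2 * a + b) (List.mem_range.mpr (by omega))
  simp only [invB] at h
  by_cases hc : Nat.beq (invCert.getD (2 * a + b) 0) 0 = true
  · rw [if_pos hc] at h
    simp only [Bool.or_eq_true, List.any_eq_true, List.all_eq_true, Bool.not_eq_true'] at h
    rcases h with ⟨i, hi, hne⟩ | hfix
    · rw [hev ⟨i, hbs i hi⟩, hev, ← Perm.mul_apply, h2] at hne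
      simp at hne
    · refine absurd (agree (syl_le hx) (one_mem _) fun i hi => Fin.ext ?_) h1
      rw [← hev, Nat.eq_of_beq_eq_true (hfix i hi)]
      rfl
  · rw [if_neg hc] at h
    simp only [Bool.and_eq_true, List.all_eq_true] at h
    obtain ⟨⟨hp, hs⟩, hall⟩ := h
    have hm := mem_sift hp hs
    refine ⟨_, hm, agree (mul_mem hm (syl_le hx)) (mul_mem tau.2 hm) fun i hi => Fin.ext ?_⟩
    have e := Nat.eq_of_beq_eq_true (hall i hi)
    rwa [hev, decP_rep hp, decP_rep hp, tau_ap] at e

theorem one_class (x : McLP) (hx : orderOf x = 2) : IsConj x tau := by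
  classical
  haveI : Fact (Nat.Prime 2) := ⟨Nat.prime_two⟩
  let P : Subgroup McLP := SylTwo.subgroupOf McLP
  have hP : Nat.card P = 128 := (Nat.card_congr (Subgroup.subgroupOfEquivOfLe syl_le).toEquiv).trans syl_eq.2
  have hf : 2 ^ (Nat.card McLP).factorization 2 = 128 := by
    rw [mclP_card, show 898128000 = 2 ^ 7 * 7016625 by norm_num, Nat.factorization_mul (by norm_num) (by norm_num),
      Nat.Prime.factorization_pow Nat.prime_two, Finsupp.add_apply, Finsupp.single_eq_same,
      Nat.factorization_eq_zero_of_not_dvd (by norm_num)]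
    rfl
  let S : Sylow 2 McLP := Sylow.ofCard P (hP.trans hf.symm)
  obtain ⟨Q, hQ⟩ := (IsPGroup.of_card (n := 1) (by rw [Nat.card_zpowers, hx, pow_one]) :
    IsPGroup 2 (zpowers x)).exists_le_sylow
  obtain ⟨u, hu⟩ := MulAction.exists_smul_eq McLP Q S
  have hmem : MulAut.conj u x ∈ P := by
    have : MulAut.conj u • x ∈ (u • Q : Sylow 2 McLP).toSubgroup := by
      rw [Sylow.coe_subgroup_smul]
      exact Subgroup.smul_mem_pointwise_smul _ _ _ (hQ (mem_zpowers x))
    rw [hu] at this
    exact this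
  have hx2 : x * x = 1 := by rw [← pow_two, ← hx]; exact pow_orderOf_eq_one x
  have hne : x ≠ 1 := fun e => by simp [e] at hx
  obtain ⟨t, ht, htx⟩ := syl_inv (x := (MulAut.conj u x).1) hmem
    (by rw [← Subgroup.coe_mul, ← map_mul, hx2, map_one]; rfl)
    (fun h => hne ((map_eq_one_iff _ (MulAut.conj u).injective).mp (Subtype.ext h)))
  refine isConj_iff.mpr ⟨⟨t, ht⟩ * u, ?_⟩
  have h' : (⟨t, ht⟩ : McLP) * MulAut.conj u x = tau * ⟨t, ht⟩ := Subtype.ext htx
  rw [MulAut.conj_apply] at h'
  rw [mul_inv_rev]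
  calc (⟨t, ht⟩ : McLP) * u * x * (u⁻¹ * (⟨t, ht⟩ : McLP)⁻¹)
      = (⟨t, ht⟩ : McLP) * (u * x * u⁻¹) * (⟨t, ht⟩ : McLP)⁻¹ := by group
    _ = tau := by rw [h', mul_inv_cancel_right]

theorem tau_order : orderOf tau = 2 := by
  haveI : Fact (Nat.Prime 2) := ⟨Nat.prime_two⟩
  refine orderOf_eq_prime (by rw [pow_two]; exact tau_sq) fun e => ?_
  have h : ∀ i : Fin 275, (i : ℕ) ∈ fixPts := fun i => (tau_fix i).mpr (by rw [e]; rfl)
  have := Finset.card_le_card (s := (Finset.univ : Finset (Fin 275)).map Fin.valEmbedding) (t := fixPts.toFinset)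
    (fun k hk => by
      obtain ⟨a, -, rfl⟩ := Finset.mem_map.mp hk
      exact List.mem_toFinset.mpr (h a))
  have h2 := List.toFinset_card_of_nodup fixPts_ok.2.1
  rw [Finset.card_map, Finset.card_univ, Fintype.card_fin, h2, fixPts_ok.1] at this
  omega

/-- The centraliser in the permutation group. -/
noncomputable abbrev Cent : Subgroup McLP := centralizer ({tau} : Set McLP)

theorem cent_comm (g : Cent) : g.1.1 * tau.1 = tau.1 * g.1.1 :=
  (congrArg Subtype.val (mem_centralizer_singleton_iff.mp g.2))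

theorem cent_fix (g : Cent) {i : Fin 275} (hi : (i : ℕ) ∈ fixPts) : (g.1.1 i : ℕ) ∈ fixPts := by
  rw [tau_fix] at hi ⊢
  have := congrArg (fun p : Perm (Fin 275) => p i) (cent_comm g)
  simp only [Perm.mul_apply, hi] at this
  exact this.symm

/-- A fixed point by its number. -/
def fp (i : Fin 35) : Fin 275 := ⟨fixPts.getD i 0, by
  have h := fixPts_ok.2.2.1
  have hi : (i : ℕ) < fixPts.length := fixPts_ok.1.symm ▸ i.2
  rw [List.getD_eq_getElem _ _ hi]
  exact Nat.le_of_ble_eq_true (List.all_eq_true.mp h _ (List.getElem_mem hi))⟩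

theorem fp_mem (i : Fin 35) : (fp i : ℕ) ∈ fixPts := by
  show fixPts.getD i 0 ∈ fixPts
  rw [List.getD_eq_getElem _ _ (fixPts_ok.1.symm ▸ i.2)]
  exact List.getElem_mem _

theorem fp_injective : Function.Injective fp := fun i j h => by
  have h' : fixPts.getD i 0 = fixPts.getD j 0 := congrArg Fin.val h
  rw [List.getD_eq_getElem _ _ (fixPts_ok.1.symm ▸ i.2), List.getD_eq_getElem _ _ (fixPts_ok.1.symm ▸ j.2)] at h'
  exact Fin.ext ((fixPts_ok.2.1.getElem_inj_iff).mp h')

theorem cent_card : Nat.card Cent ≤ 40320 := by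
  rw [← fix_bound, ← Subgroup.card_map_of_injective (K := Cent) McLP.subtype_injective]
  refine card_le_keepBound fixPts fix_table mclP_valid (by norm_num) _ ?_ ?_
  · rintro g ⟨h, -, rfl⟩
    rw [fix_prod]
    exact h.2
  · rintro g ⟨h, hh, rfl⟩ i hi
    exact cent_fix ⟨h, hh⟩ hi

theorem exists_move (g : Cent) : ∃ p : Perm (Fin 35), ∀ i, g.1.1 (fp i) = fp (p i) := by
  have hex : ∀ i, ∃ j, g.1.1 (fp i) = fp j := fun i => by
    obtain ⟨k, hk, he⟩ := List.getElem_of_mem (cent_fix g (fp_mem i))
    refine ⟨⟨k, fixPts_ok.1 ▸ hk⟩, Fin.ext ?_⟩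
    show _ = fixPts.getD k 0
    rw [List.getD_eq_getElem _ _ hk, he]
  choose f hf using hex
  have hinj : Function.Injective f := fun a b e => fp_injective (g.1.1.injective (by rw [hf, hf, e]))
  exact ⟨Equiv.ofBijective f (Finite.injective_iff_bijective.mp hinj), hf⟩

/-- The action on the fixed points. -/
noncomputable def onFix : Cent →* Perm (Fin 35) := MonoidHom.mk' (fun g => (exists_move g).choose) fun a b =>
  Equiv.ext fun i => fp_injective (by
    rw [← (exists_move (a * b)).choose_spec i, Perm.mul_apply, ← (exists_move a).choose_spec,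
      ← (exists_move b).choose_spec]
    rfl)

theorem onFix_eq {g : Cent} {p : Perm (Fin 35)} (h : ∀ i, g.1.1 (fp i) = fp (p i)) : onFix g = p :=
  Equiv.ext fun i => fp_injective (((exists_move g).choose_spec i).symm.trans (h i))

/-- The involution inside its centraliser. -/
noncomputable def tauC : Cent := ⟨tau, mem_centralizer_singleton_iff.mpr rfl⟩

theorem structure_cent : (∀ g : Cent, onFix g = 1 → g = 1 ∨ g = tauC) ∧
    Nonempty (onFix.range ≃* ↥(alternatingGroup (Fin 8))) ∧ onFix tauC = 1 := by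
  have htau : onFix tauC = 1 := onFix_eq fun i => (tau_fix _).mp (fp_mem i)
  have hsub : genG 35 (imGens.map Prod.fst) ≤ onFix.range := by
    rw [genG, Subgroup.closure_le]
    rintro p ⟨c, hc, hp⟩
    obtain ⟨j, hj, rfl⟩ := List.getElem_of_mem hc
    rw [List.length_map] at hj
    have hj2 : j < 2 := cent_ok.2.2 ▸ hj
    have hjc : j < centGens.length := cent_ok.2.1.symm ▸ hj2
    have h := List.all_eq_true.mp cent_ok.1 _ (List.getElem_mem hjc)
    simp only [Bool.and_eq_true, List.all_eq_true, List.mem_range] at h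
    obtain ⟨⟨hperm, hs⟩, hcomm⟩ := h
    have hm := mem_sift hperm hs
    have hr := decP_rep hperm
    refine ⟨⟨⟨_, hm⟩, mem_centralizer_singleton_iff.mpr (Subtype.ext (Equiv.ext fun i => Fin.ext ?_))⟩, onFix_eq fun i => ?_⟩
    · show (decP 275 _ (tau.1 i) : ℕ) = (tau.1 (decP 275 _ i) : ℕ)
      rw [← hr, ← tau_ap, ← tau_ap, ← hr]
      exact Nat.eq_of_beq_eq_true (hcomm i i.2)
    · have h2 := List.all_eq_true.mp (List.all_eq_true.mp im_ok j (List.mem_range.mpr hj2)) i (List.mem_range.mpr i.2)
      rw [List.getD_eq_getElem _ _ hjc, List.getD_eq_getElem (l := imGens) _ hj] at h2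
      refine Fin.ext ?_
      rw [List.getElem_map] at hp
      show (decP 275 _ (fp i) : ℕ) = fixPts.getD (p i) 0
      rw [← hp i, ← hr (fp i)]
      exact Nat.eq_of_beq_eq_true h2
  obtain ⟨e⟩ := eight_iso
  have hI : Nat.card (genG 35 (imGens.map Prod.fst)) = 20160 := by
    rw [← Nat.card_congr e.toEquiv, nat_card_alternatingGroup, Nat.card_fin]
    decide
  have hne : tauC ≠ 1 := fun h => by
    have := tau_order
    rw [show tau = 1 from congrArg Subtype.val h, orderOf_one] at this
    omega
  have hker : 2 ≤ Nat.card onFix.ker := by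
    rw [Nat.succ_le_iff, Finite.one_lt_card_iff_nontrivial]
    exact ⟨⟨⟨tauC, htau⟩, 1, fun h => hne (congrArg Subtype.val h)⟩⟩
  have hmul := onFix.ker.card_mul_index
  rw [index_ker] at hmul
  have hr : 20160 ≤ Nat.card onFix.range := hI ▸ Nat.card_le_card_of_injective _ (Subgroup.inclusion_injective hsub)
  have hc := cent_card
  have hr2 : Nat.card onFix.range = 20160 := by
    by_contra hlt
    have : 2 * 20161 ≤ Nat.card onFix.ker * Nat.card onFix.range := Nat.mul_le_mul hker (by omega)
    omega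
  have hk2 : Nat.card onFix.ker = 2 := by
    rw [hr2] at hmul
    have hh := hmul.trans_le hc
    generalize Nat.card onFix.ker = k at hh hker ⊢
    linarith
  refine ⟨fun g hg => ?_, ⟨(MulEquiv.subgroupCongr (Subgroup.eq_of_le_of_card_ge hsub (by rw [hr2, hI]))).symm.trans e.symm⟩,
    htau⟩
  by_contra h
  rw [not_or] at h
  have h3 : 3 ≤ Nat.card onFix.ker := by
    have hinj : Function.Injective (![⟨1, map_one _⟩, ⟨tauC, htau⟩, ⟨g, hg⟩] : Fin 3 → onFix.ker) := by
      intro a b hab
      fin_cases a <;> fin_cases b <;>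
        first
          | rfl
          | (exfalso; have hv := congrArg Subtype.val hab; simp at hv; first | exact h.1 hv | exact h.1 hv.symm | exact h.2 hv | exact h.2 hv.symm | exact hne hv | exact hne hv.symm)
    simpa using Nat.card_le_card_of_injective _ hinj
  omega

theorem center_cent : center Cent = zpowers tauC := by
  obtain ⟨hker, ⟨e⟩, htau⟩ := structure_cent
  haveI : IsSimpleGroup ↥(alternatingGroup (Fin 8)) := alternatingGroup.isSimpleGroup (by simp)
  refine le_antisymm (fun z hz => ?_) (zpowers_le.mpr (mem_center_iff.mpr fun g => Subtype.ext ?_))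
  · let π : Cent →* ↥(alternatingGroup (Fin 8)) := e.toMonoidHom.comp onFix.rangeRestrict
    have hπ : Function.Surjective π := e.surjective.comp onFix.rangeRestrict_surjective
    have hzc : π z ∈ center ↥(alternatingGroup (Fin 8)) := mem_center_iff.mpr fun a => by
      obtain ⟨b, rfl⟩ := hπ a
      rw [← map_mul, ← map_mul, mem_center_iff.mp hz b]
    have hbot : center ↥(alternatingGroup (Fin 8)) = ⊥ := by
      rcases IsSimpleGroup.eq_bot_or_eq_top_of_normal (center ↥(alternatingGroup (Fin 8))) inferInstance with h | h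
      · exact h
      · exfalso
        let a : Fin 8 → ↥(alternatingGroup (Fin 8)) := fun k =>
          if h : Perm.sign (Equiv.swap 0 1 * Equiv.swap 2 k) = 1 then ⟨_, Perm.mem_alternatingGroup.mpr h⟩ else 1
        have h1 := mem_center_iff.mp (h ▸ Subgroup.mem_top (a 3)) (a 4)
        revert h1
        decide +kernel
    rw [hbot, mem_bot] at hzc
    have hz1 : onFix z = 1 := by
      have := (map_eq_one_iff e.toMonoidHom e.injective).mp hzc
      exact congrArg Subtype.val this
    rcases hker z hz1 with rfl | rfl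
    · exact one_mem _
    · exact mem_zpowers _
  · exact mem_centralizer_singleton_iff.mp g.2

theorem double_cover : Cfsg.IsNonsplitDoubleCover Cent ↥(alternatingGroup (Fin 8)) := by
  classical
  obtain ⟨hker, ⟨e⟩, htau⟩ := structure_cent
  haveI : Fact (Nat.Prime 2) := ⟨Nat.prime_two⟩
  have hcard : Nat.card (center Cent) = 2 := by
    rw [center_cent, Nat.card_zpowers, ← Subgroup.orderOf_coe]
    exact tau_order
  have hke : onFix.ker = center Cent := by
    refine le_antisymm (fun z hz => ?_) (center_cent ▸ zpowers_le.mpr htau)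
    rcases hker z hz with rfl | rfl
    · exact one_mem _
    · rw [center_cent]; exact mem_zpowers _
  refine ⟨hcard, ⟨((QuotientGroup.quotientMulEquivOfEq hke.symm).trans
    (QuotientGroup.quotientKerEquivRange onFix)).trans e⟩, fun L hL => ?_⟩
  obtain ⟨hperm, hs, hsq⟩ := root_ok
  have hm := mem_sift hperm hs
  set r : Perm (Fin 275) := decP 275 rootT.1
  have hrr : r * r = tau.1 := Equiv.ext fun i => Fin.ext (by
    rw [Perm.mul_apply, ← decP_rep hperm, ← decP_rep hperm, ← tau_ap]
    exact Nat.eq_of_beq_eq_true (List.all_eq_true.mp hsq i (List.mem_range.mpr i.2)))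
  have hrC : (⟨r, hm⟩ : McLP) ∈ Cent := mem_centralizer_singleton_iff.mpr (Subtype.ext (by
    show r * tau.1 = tau.1 * r
    rw [← hrr, mul_assoc]))
  have hidx : L.index = 2 := by rw [hL.index_eq_card, hcard]
  have hmem := Subgroup.mul_self_mem_of_index_two hidx (⟨⟨r, hm⟩, hrC⟩ : Cent)
  have hz : (⟨⟨r, hm⟩, hrC⟩ : Cent) * ⟨⟨r, hm⟩, hrC⟩ = tauC := Subtype.ext (Subtype.ext hrr)
  rw [hz] at hmem
  have hb : tauC ∈ center Cent ⊓ L := ⟨center_cent ▸ mem_zpowers _, hmem⟩
  rw [hL.disjoint.eq_bot, mem_bot] at hb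
  have := tau_order
  rw [show tau = 1 from congrArg Subtype.val hb, orderOf_one] at this
  omega

theorem cover_congr {Γ Δ : Type*} [Group Γ] [Group Δ] {K : Type*} [Group K] (e : Γ ≃* Δ)
    (h : Cfsg.IsNonsplitDoubleCover Δ K) : Cfsg.IsNonsplitDoubleCover Γ K := by
  obtain ⟨h2, ⟨q⟩, hns⟩ := h
  have hmap : (center Γ).map e.toMonoidHom = center Δ := by
    ext y
    rw [Subgroup.mem_map_equiv, mem_center_iff, mem_center_iff]
    constructor
    · intro h g
      have := congrArg e (h (e.symm g))
      simpa using this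
    · intro h g
      exact e.injective (by simpa using h (e g))
  refine ⟨by rw [← h2, ← hmap]; exact (Subgroup.card_map_of_injective e.injective).symm,
    ⟨(QuotientGroup.congr (center Γ) (center Δ) e hmap).trans q⟩, fun L hL => hns (L.map e.toMonoidHom) ?_⟩
  rw [← hmap]
  exact Subgroup.isComplement'_of_disjoint_and_mul_eq_univ
    (by rw [disjoint_iff, ← Subgroup.map_inf _ _ _ e.injective, hL.disjoint.eq_bot, Subgroup.map_bot])
    (by rw [Subgroup.coe_map, Subgroup.coe_map, ← Set.image_mul, hL.mul_eq, Set.image_univ]; exact e.surjective.range_eq)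

theorem mcl_involutions : (∀ x y : ↥Cfsg.Spor.McL, orderOf x = 2 → orderOf y = 2 → IsConj x y) ∧
    ∃ t : ↥Cfsg.Spor.McL, orderOf t = 2 ∧
      Cfsg.IsNonsplitDoubleCover ↥(centralizer ({t} : Set ↥Cfsg.Spor.McL)) ↥(alternatingGroup (Fin 8)) := by
  obtain ⟨e1⟩ := spor_mcl_equiv
  obtain ⟨-, -, ⟨e2⟩⟩ := mcl_model
  let e : ↥Cfsg.Spor.McL ≃* McLP := e1.trans e2
  refine ⟨fun x y hx hy => ?_, e.symm tau, by rw [MulEquiv.orderOf_eq]; exact tau_order, ?_⟩
  · have h := (one_class (e x) (by rw [MulEquiv.orderOf_eq]; exact hx)).trans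
      (one_class (e y) (by rw [MulEquiv.orderOf_eq]; exact hy)).symm
    simpa using e.symm.toMonoidHom.map_isConj h
  · have hmap : (centralizer ({e.symm tau} : Set ↥Cfsg.Spor.McL)).map e.toMonoidHom = Cent := by
      ext g
      rw [Subgroup.mem_map_equiv, mem_centralizer_singleton_iff, mem_centralizer_singleton_iff]
      exact ⟨fun h => by simpa using congrArg e h, fun h => by simpa using congrArg e.symm h⟩
    exact cover_congr ((e.subgroupMap _).trans (MulEquiv.subgroupCongr hmap)) double_cover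

end CfsgLib.McLInvol
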