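/-
The 2-fusion system of McL is simple.
-/
import Cfsg.Agent.Lib.McLInvol.Main
import Cfsg.Agent.Lib.McLInvol.FusionData
import Cfsg.Agent.Lib.Fusion.GroupSimple

set_option autoImplicit false
set_option maxHeartbeats 800000

namespace CfsgLib.McLInvol

open Equiv CfsgPC CfsgLeech CfsgLeech.Models

attribute [local irreducible] sylGens sylChain fixPts imChain imSyl gWords gNums gPos bs invT

theorem bs_lt' : ∀ i ∈ bs, i < 275 := by unfold bs; decide

theorem ev_elem {m : ℕ} (hm : m < 128) : ∃ u ∈ SylTwo, ∀ i : Fin 275, ev m i = (u i : ℕ) := by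
  obtain ⟨-, hlens, -⟩ := syl_shape
  rcases hsub : sylChain with _ | ⟨L0, _ | ⟨L1, _ | ⟨L2, t⟩⟩⟩ <;> rw [hsub] at hlens <;> simp at hlens
  obtain ⟨h0, h1⟩ := hlens
  have hp : ∀ l < 2, ∀ k < [64, 2].getD l 0, isPerm 275 ((sylChain.getD l ⟨0, [], [], []⟩).tc k)
      ((sylChain.getD l ⟨0, [], [], []⟩).ti k) = true := fun l hl k hk =>
    List.all_eq_true.mp (List.all_eq_true.mp syl_perms l (List.mem_range.mpr hl)) k (List.mem_range.mpr hk)
  have hP0 := hp 0 (by norm_num) (m / 2) (by show m / 2 < 64; omega)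
  have hP1 := hp 1 (by norm_num) (m % 2) (by show m % 2 < 2; omega)
  rw [hsub] at hP0 hP1
  set T0 := decP 275 (L0.tc (m / 2)) with hT0
  set T1 := decP 275 (L1.tc (m % 2)) with hT1
  have hr0 : Rep 275 (L0.tc (m / 2)) T0 := decP_rep hP0
  have hr1 : Rep 275 (L1.tc (m % 2)) T1 := decP_rep hP1
  refine ⟨T0 * (T1 * 1), ?_, fun i => ?_⟩
  · rw [← SetLike.mem_coe, ← syl_eq.1, hsub]
    exact ⟨m / 2, by omega, T0, hr0, T1 * 1, ⟨m % 2, by omega, T1, hr1, 1, rfl, rfl⟩, rfl⟩
  · rw [ev, hsub, mul_one]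
    show ap (L0.tc (m / 2)) (ap (L1.tc (m % 2)) i) = _
    rw [hr1 i, hr0 (T1 i)]
    rfl

theorem ev_surj {u : Perm (Fin 275)} (hu : u ∈ SylTwo) : ∃ m < 128, ∀ i : Fin 275, ev m i = (u i : ℕ) := by
  obtain ⟨-, hlens, -⟩ := syl_shape
  rcases hsub : sylChain with _ | ⟨L0, _ | ⟨L1, _ | ⟨L2, t⟩⟩⟩ <;> rw [hsub] at hlens <;> simp at hlens
  obtain ⟨h0, h1⟩ := hlens
  have hmem : u ∈ prodSet 275 sylChain := by rw [syl_eq.1]; exact hu
  rw [hsub] at hmem
  obtain ⟨a, ha, T0, hT0, y, ⟨b, hb, T1, hT1, w, hw, rfl⟩, rfl⟩ := hmem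
  obtain rfl : w = 1 := hw
  refine ⟨2 * a + b, by omega, fun i => ?_⟩
  rw [ev, show (2 * a + b) / 2 = a by omega, show (2 * a + b) % 2 = b by omega, hsub, mul_one]
  show ap (L0.tc a) (ap (L1.tc b) i) = _
  rw [hT1 i, hT0 (T1 i)]
  rfl

theorem agree_syl {g h : Perm (Fin 275)} (hg : g ∈ McLP) (hh : h ∈ McLP)
    (e : ∀ i : Fin 275, (i : ℕ) ∈ bs → (g i : ℕ) = h i) : g = h := agree hg hh fun i hi => Fin.ext (e i hi)

theorem gen_by_invols (K : Subgroup (Perm (Fin 275))) (hK : ∀ u ∈ SylTwo, u * u = 1 → u ∈ K) : SylTwo ≤ K := by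
  refine (Subgroup.closure_le _).mpr ?_
  rintro p ⟨c, hc, hp⟩
  obtain ⟨k, hk, rfl⟩ := List.getElem_of_mem hc
  rw [List.length_map] at hk
  rw [List.getElem_map] at hp
  obtain ⟨hlen, hw⟩ := word_ok
  have h := List.all_eq_true.mp hw k (List.mem_range.mpr (hlen ▸ hk))
  simp only [Bool.and_eq_true, List.all_eq_true, Nat.blt_eq] at h
  obtain ⟨hJ, hE⟩ := h
  have key : ∀ l : List ℕ, (∀ j ∈ l, j < 128 ∧ ∀ i ∈ bs, Nat.beq (ev j (ev j i)) i = true) →
      ∃ v ∈ SylTwo ⊓ K, ∀ i : Fin 275, evW l i = (v i : ℕ) := by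
    intro l
    induction l with
    | nil => exact fun _ => ⟨1, one_mem _, fun i => rfl⟩
    | cons j l ih =>
      intro hl
      obtain ⟨v, hv, hvr⟩ := ih fun x hx => hl x (List.mem_cons_of_mem _ hx)
      obtain ⟨hj, hjj⟩ := hl j (List.mem_cons_self ..)
      obtain ⟨u, hu, hur⟩ := ev_elem hj
      have h2 : u * u = 1 := agree_syl (syl_le (mul_mem hu hu)) (one_mem _) fun i hi => by
        have := Nat.eq_of_beq_eq_true (hjj i hi)
        rwa [hur i, hur (u i)] at this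
      refine ⟨u * v, mul_mem ⟨hu, hK u hu h2⟩ hv, fun i => ?_⟩
      show ev j (evW l i) = _
      rw [hvr, hur]
      rfl
  obtain ⟨v, ⟨hv, hvK⟩, hvr⟩ := key _ hJ
  have hpS : p ∈ SylTwo := Subgroup.subset_closure ⟨_, hc, by rw [List.getElem_map]; exact hp⟩
  have : p = v := agree_syl (syl_le hpS) (syl_le hv) fun i hi => by
    have := Nat.eq_of_beq_eq_true (hE i hi)
    rwa [List.getD_eq_getElem _ _ hk, hp i, hvr i] at this
  exact this ▸ hvK

theorem tau_central : tau.1 ∈ SylTwo ∧ ∀ u ∈ SylTwo, u * tau.1 = tau.1 * u := by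
  obtain ⟨h12, hc⟩ := tau_syl
  obtain ⟨u, hu, hur⟩ := ev_elem (show 12 < 128 by norm_num)
  have he : u = tau.1 := agree_syl (syl_le hu) tau.2 fun i hi => by
    have := Nat.eq_of_beq_eq_true (List.all_eq_true.mp h12 i hi)
    rwa [hur i, tau_ap i] at this
  refine ⟨he ▸ hu, fun v hv => ?_⟩
  have hle : SylTwo ≤ Subgroup.centralizer {tau.1} := by
    refine (Subgroup.closure_le _).mpr ?_
    rintro p ⟨c, hc', hp⟩
    obtain ⟨d, hd, rfl⟩ := List.mem_map.mp hc'
    have hpS : p ∈ SylTwo := Subgroup.subset_closure ⟨_, hc', hp⟩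
    refine Subgroup.mem_centralizer_singleton_iff.mpr (agree_syl (mul_mem (syl_le hpS) tau.2)
      (mul_mem tau.2 (syl_le hpS)) fun i hi => ?_)
    have := Nat.eq_of_beq_eq_true (List.all_eq_true.mp (List.all_eq_true.mp hc d hd) i hi)
    rwa [tau_ap, hp, hp, tau_ap] at this
  exact Subgroup.mem_centralizer_singleton_iff.mp (hle hv)

theorem central_cases {v : Perm (Fin 275)} (hv : v ∈ SylTwo) (hc : ∀ u ∈ SylTwo, v * u = u * v) :
    v = 1 ∨ v = tau.1 := by
  obtain ⟨m, hm, hmr⟩ := ev_surj hv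
  obtain ⟨hg, hall⟩ := cen_ok
  have h := List.all_eq_true.mp hall m (List.mem_range.mpr hm)
  simp only [Bool.or_eq_true, List.any_eq_true, List.all_eq_true, Bool.not_eq_true'] at h
  rcases h with ⟨g, hgm, i, hi, hne⟩ | h | h
  · exfalso
    obtain ⟨u, hu, hur⟩ := ev_elem (Nat.le_of_ble_eq_true (List.all_eq_true.mp hg g hgm))
    rw [hur ⟨i, bs_lt' i hi⟩, hmr, hmr ⟨i, bs_lt' i hi⟩, hur, ← Perm.mul_apply, hc u hu] at hne
    simp at hne
  · left
    refine agree_syl (syl_le hv) (one_mem _) fun i hi => ?_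
    rw [← hmr i, Nat.eq_of_beq_eq_true (h i hi)]
    rfl
  · right
    refine agree_syl (syl_le hv) tau.2 fun i hi => ?_
    rw [← hmr i, Nat.eq_of_beq_eq_true (h i hi), tau_ap]

theorem im_range (g : Cent) : onFix g ∈ prodSet 35 imChain := by
  have hsub : genG 35 (imGens.map Prod.fst) ≤ onFix.range := by
    rw [genG, Subgroup.closure_le]
    rintro p ⟨c, hc, hp⟩
    obtain ⟨j, hj, rfl⟩ := List.getElem_of_mem hc
    rw [List.length_map] at hj
    have hj2 : j < 2 := cent_ok.2.2 ▸ hj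
    have hjc : j < centGens.length := cent_ok.2.1.symm ▸ hj2
    have h := List.all_eq_true.mp cent_ok.1 _ (List.getElem_mem hjc)
    simp only [Bool.and_eq_true, List.all_eq_true, List.mem_range] at h
    obtain ⟨⟨hperm, hs⟩, hcomm⟩ := h
    have hm := mem_sift hperm hs
    have hr := decP_rep hperm
    refine ⟨⟨⟨_, hm⟩, Subgroup.mem_centralizer_singleton_iff.mpr (Subtype.ext (Equiv.ext fun i => Fin.ext ?_))⟩,
      onFix_eq fun i => ?_⟩
    · show (decP 275 _ (tau.1 i) : ℕ) = (tau.1 (decP 275 _ i) : ℕ)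
      rw [← hr, ← tau_ap, ← tau_ap, ← hr]
      exact Nat.eq_of_beq_eq_true (hcomm i i.2)
    · have h2 := List.all_eq_true.mp (List.all_eq_true.mp im_ok j (List.mem_range.mpr hj2)) i (List.mem_range.mpr i.2)
      rw [List.getD_eq_getElem _ _ hjc, List.getD_eq_getElem (l := imGens) _ hj] at h2
      refine Fin.ext ?_
      rw [List.getElem_map] at hp
      show (decP 275 _ (fp i) : ℕ) = fixPts.getD (p i) 0
      rw [← hp i, ← hr (fp i)]
      exact Nat.eq_of_beq_eq_true h2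
  obtain ⟨e⟩ := eight_iso
  obtain ⟨-, ⟨e'⟩, -⟩ := structure_cent
  have h8 : Nat.card ↥(alternatingGroup (Fin 8)) = 20160 := by
    rw [nat_card_alternatingGroup, Nat.card_fin]; decide
  have heq : genG 35 (imGens.map Prod.fst) = onFix.range := Subgroup.eq_of_le_of_card_ge hsub
    (by rw [Nat.card_congr e'.toEquiv, ← Nat.card_congr e.toEquiv])
  obtain ⟨hsub', hcard⟩ := table_products (by norm_num) im_table im_valid
  have hset : prodSet 35 imChain = (genG 35 (imGens.map Prod.fst) : Set (Perm (Fin 35))) :=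
    Set.eq_of_subset_of_ncard_le hsub' (by
      rw [hcard, im_shape.2.2, ← Nat.card_coe_set_eq]
      exact le_of_eq (((Nat.card_congr e.toEquiv).symm.trans h8))) (Set.toFinite _)
  rw [hset, heq]
  exact ⟨g, rfl⟩

theorem onFix_code {u : Cent} {c m : ℕ} (hm : ∀ i : Fin 275, ev m i = (u.1.1 i : ℕ)) (h : imEq c m = true) :
    ∀ i : Fin 35, ap c i = (onFix u i : ℕ) := by
  intro i
  simp only [imEq, List.all_eq_true, List.mem_range, Bool.and_eq_true, Nat.blt_eq] at h
  obtain ⟨he, hlt⟩ := h i i.2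
  obtain ⟨p, hp⟩ := exists_move u
  rw [onFix_eq hp]
  have h2 : fp (p i) = fp ⟨ap c i, hlt⟩ := Fin.ext (by
    rw [← hp i, ← hm (fp i)]
    exact Nat.eq_of_beq_eq_true he)
  rw [fp_injective h2]

/-- Sylow elements inside the centraliser. -/
noncomputable def sylC {u : Perm (Fin 275)} (hu : u ∈ SylTwo) : Cent :=
  ⟨⟨u, syl_le hu⟩, Subgroup.mem_centralizer_singleton_iff.mpr (Subtype.ext (tau_central.2 u hu))⟩

theorem im_code {u : Perm (Fin 275)} (hu : u ∈ SylTwo) : ∃ p ∈ imSyl, ∀ i : Fin 35, ap p.1 i = (onFix (sylC hu) i : ℕ) := by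
  obtain ⟨m, hm, hmr⟩ := ev_surj hu
  obtain ⟨p, hp, he⟩ := List.any_eq_true.mp (List.all_eq_true.mp imSyl_ok.2.1 m (List.mem_range.mpr hm))
  exact ⟨p, hp, onFix_code (u := sylC hu) hmr he⟩

theorem self_normalizing {n : Perm (Fin 275)} (hn : n ∈ McLP) (hN : ∀ u, u ∈ SylTwo ↔ n * u * n⁻¹ ∈ SylTwo) :
    n ∈ SylTwo := by
  obtain ⟨htS, htc⟩ := tau_central
  have hN' : ∀ u ∈ SylTwo, n⁻¹ * u * n ∈ SylTwo := fun u hu => (hN _).mpr (by simpa [mul_assoc] using hu)
  have hcomm : n * tau.1 = tau.1 * n := by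
    rcases central_cases ((hN _).mp htS) (fun u hu => by
      have h := congrArg (fun x => n * x * n⁻¹) (htc _ (hN' u hu))
      simpa [mul_assoc] using h.symm) with h | h
    · exfalso
      have := tau_order
      rw [show tau = 1 from Subtype.ext (conj_eq_one_iff.mp h), orderOf_one] at this
      omega
    · exact mul_inv_eq_iff_eq_mul.mp h
  set nC : Cent := ⟨⟨n, hn⟩, Subgroup.mem_centralizer_singleton_iff.mpr (Subtype.ext hcomm)⟩ with hnC
  set g := onFix nC with hg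
  obtain ⟨hw0, hfix, huniq, hb0, hk0, hst⟩ := fix_unique
  obtain ⟨him1, -, hpos, hgnum⟩ := imSyl_ok
  have hgens : ∀ j ∈ gPos, ∃ u, ∃ hu : u ∈ SylTwo, ∀ i : Fin 35, ap (imSyl.getD j (0, 0)).1 i = (onFix (sylC hu) i : ℕ) := by
    intro j hj
    have hjl : j < imSyl.length := Nat.le_of_ble_eq_true (List.all_eq_true.mp hpos j hj)
    have h := List.all_eq_true.mp him1 _ (List.getElem_mem hjl)
    simp only [Bool.and_eq_true, Nat.blt_eq] at h
    obtain ⟨u, hu, hur⟩ := ev_elem h.1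
    rw [List.getD_eq_getElem _ _ hjl]
    exact ⟨u, hu, onFix_code (u := sylC hu) hur h.2⟩
  have hq35 : qPt < 35 := by decide
  set q : Fin 35 := ⟨qPt, hq35⟩ with hq
  have hqfix : ∀ {u} (hu : u ∈ SylTwo), onFix (sylC hu) q = q := by
    intro u hu
    obtain ⟨p, hp, hpr⟩ := im_code hu
    refine Fin.ext ?_
    rw [← hpr q]
    exact Nat.eq_of_beq_eq_true (List.all_eq_true.mp hfix p hp)
  have hconj : ∀ {u} (hu : u ∈ SylTwo), g * onFix (sylC hu) * g⁻¹ = onFix (sylC ((hN u).mp hu)) := by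
    intro u hu
    rw [hg, ← map_inv, ← map_mul, ← map_mul]
    rfl
  have hgq : g q = q := by
    have h := List.all_eq_true.mp huniq (g q) (List.mem_range.mpr (g q).2)
    simp only [Bool.or_eq_true, List.any_eq_true, Bool.not_eq_true'] at h
    rcases h with h | ⟨j, hj, hne⟩
    · exact Fin.ext (Nat.eq_of_beq_eq_true h)
    · exfalso
      obtain ⟨u, hu, hur⟩ := hgens j hj
      have e := hconj (hN' u hu)
      have e' : onFix (sylC ((hN _).mp (hN' u hu))) = onFix (sylC hu) := congrArg onFix (Subtype.ext (Subtype.ext (by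
        show n * (n⁻¹ * u * n) * n⁻¹ = u
        group)))
      rw [e'] at e
      rw [hur (g q), ← e] at hne
      simp [hqfix (hN' u hu)] at hne
  -- move to the stabiliser of the base
  have him := im_range nC
  obtain ⟨hs, hlens, -⟩ := im_shape
  rcases hsub : imChain with _ | ⟨L0, _ | ⟨L1, _ | ⟨L2, _ | ⟨L3, _ | ⟨L4, _ | ⟨L5, t⟩⟩⟩⟩⟩⟩ <;>
    rw [hsub] at hlens <;> simp at hlens
  obtain ⟨l0, l1, l2, l3, l4⟩ := hlens
  obtain ⟨hsub', hcard⟩ := table_products (by norm_num) im_table im_valid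
  have hset : prodSet 35 imChain = (genG 35 (imGens.map Prod.fst) : Set (Perm (Fin 35))) := by
    obtain ⟨e⟩ := eight_iso
    refine Set.eq_of_subset_of_ncard_le hsub' ?_ (Set.toFinite _)
    rw [hcard, im_shape.2.2, ← Nat.card_coe_set_eq]
    refine le_of_eq ((Nat.card_congr e.toEquiv).symm.trans ?_)
    rw [nat_card_alternatingGroup, Nat.card_fin]; decide
  have hent : ∀ k < L0.tr.length, entryOK 35 L0 (imGens.map Prod.fst) k = true := fun k hk => by
    have h := of_entriesOK (List.all_eq_true.mp im_entries 0 (List.mem_range.mpr (by norm_num))) (Nat.zero_le k)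
      (show k < [35, 18, 4, 4, 2].getD 0 0 by show k < 35; omega)
    rwa [hsub] at h
  rw [hsub] at hw0 hb0 hk0 hst
  obtain ⟨T, hT, hTr, hTi, -, -⟩ := level_entry im_valid (show L0.base < 35 by rw [show L0.base = 0 from hb0]; norm_num)
    hent qNum (by rw [l0]; decide)
  have hT0 : T 0 = q := Fin.ext (by rw [← hTr 0]; exact Nat.eq_of_beq_eq_true hw0)
  have hsm : T⁻¹ * g * T ∈ prodSet 35 imChain := by
    rw [hset] at him ⊢
    exact mul_mem (mul_mem (inv_mem hT) him) hT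
  have hs0 : (T⁻¹ * g * T) 0 = 0 := by
    rw [Perm.mul_apply, Perm.mul_apply, hT0, hgq, ← hT0]
    exact T.symm_apply_apply 0
  rw [hsub] at hsm
  obtain ⟨k, hk, T0, hr0, y, ⟨a, ha, T1, hr1, y2, ⟨b, hb, T2, hr2, y3, ⟨c, hc, T3, hr3, y4, ⟨d, hd, T4, hr4, w, hw, rfl⟩, rfl⟩, rfl⟩, rfl⟩, he⟩ := hsm
  obtain rfl : w = 1 := hw
  simp only [List.all_eq_true, List.mem_range] at hst
  have f1 : T1 0 = 0 := Fin.ext (by rw [← hr1 0]; exact Nat.eq_of_beq_eq_true (hst 1 (by simp) a (by show a < 18; omega)))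
  have f2 : T2 0 = 0 := Fin.ext (by rw [← hr2 0]; exact Nat.eq_of_beq_eq_true (hst 2 (by simp) b (by show b < 4; omega)))
  have f3 : T3 0 = 0 := Fin.ext (by rw [← hr3 0]; exact Nat.eq_of_beq_eq_true (hst 3 (by simp) c (by show c < 4; omega)))
  have f4 : T4 0 = 0 := Fin.ext (by rw [← hr4 0]; exact Nat.eq_of_beq_eq_true (hst 4 (by simp) d (by show d < 2; omega)))
  have hk' := List.all_eq_true.mp hk0 k (List.mem_range.mpr (by omega))
  have hT01 : T0 = 1 := by
    by_cases h : Nat.beq k 0 = true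
    · rw [if_pos h, List.all_eq_true] at hk'
      refine Equiv.ext fun i => Fin.ext ?_
      rw [← hr0 i]
      exact Nat.eq_of_beq_eq_true (hk' i (List.mem_range.mpr i.2))
    · exfalso
      rw [if_neg h, Bool.not_eq_true'] at hk'
      have h0 : T0 0 = 0 := by
        rw [he] at hs0
        simp only [Perm.mul_apply, Perm.one_apply, f4, f3, f2, f1] at hs0
        exact hs0
      have e0 : ap (([L0, L1, L2, L3, L4].getD 0 ⟨0, [], [], []⟩).tc k) 0 = 0 := by
        show ap (L0.tc k) ((0 : Fin 35) : ℕ) = _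
        rw [hr0 0, h0]; rfl
      rw [e0] at hk'
      simp at hk'
  have hgel : ∀ i : Fin 35, gEl a b c d i = (g i : ℕ) := by
    intro i
    have e : g = T * (T1 * (T2 * (T3 * T4))) * T⁻¹ := by
      have h : T * (T⁻¹ * g * T) * T⁻¹ = T * (T0 * (T1 * (T2 * (T3 * (T4 * 1))))) * T⁻¹ := by rw [he]
      rw [hT01, one_mul, mul_one] at h
      rw [← h]; group
    simp only [gEl, hsub]
    show ap (L0.tc qNum) (ap (L1.tc a) (ap (L2.tc b) (ap (L3.tc c) (ap (L4.tc d) (ap (L0.ti qNum) i))))) = _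
    rw [hTi i, hr4, hr3, hr2, hr1, hTr, e]
    rfl
  have h := List.all_eq_true.mp (List.all_eq_true.mp (List.all_eq_true.mp (List.all_eq_true.mp norm_ok a
    (List.mem_range.mpr (by omega))) b (List.mem_range.mpr (by omega))) c (List.mem_range.mpr (by omega))) d
    (List.mem_range.mpr (by omega))
  simp only [normB, Bool.or_eq_true, List.any_eq_true, List.all_eq_true, List.mem_range, Bool.not_eq_true'] at h
  rcases h with ⟨p, hp, hpe⟩ | ⟨j, hj, hne⟩
  · have hpm := List.all_eq_true.mp him1 p hp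
    simp only [Bool.and_eq_true, Nat.blt_eq] at hpm
    obtain ⟨u, hu, hur⟩ := ev_elem hpm.1
    have hgu : g = onFix (sylC hu) := Equiv.ext fun i => Fin.ext (by
      rw [← hgel i, Nat.eq_of_beq_eq_true (hpe i i.2), onFix_code (u := sylC hu) hur hpm.2 i])
    have hker : onFix ((sylC hu)⁻¹ * nC) = 1 := by rw [map_mul, map_inv, ← hg, hgu, inv_mul_cancel]
    rcases structure_cent.1 _ hker with h1 | h1
    · have h2 : n = u := (inv_mul_eq_one.mp (congrArg (fun x : Cent => x.1.1) h1 : u⁻¹ * n = 1)).symm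
      exact h2 ▸ hu
    · have h2 : u⁻¹ * n = tau.1 := congrArg (fun x : Cent => x.1.1) h1
      rw [inv_mul_eq_iff_eq_mul.mp h2]
      exact mul_mem hu htS
  · exfalso
    obtain ⟨u, hu, hur⟩ := hgens j hj
    obtain ⟨p, hp, hpr⟩ := im_code ((hN u).mp hu)
    obtain ⟨i, hi, hb'⟩ := hne p hp
    rw [hur ⟨i, hi⟩, hgel, hgel ⟨i, hi⟩, hpr, ← hconj hu] at hb'
    simp at hb'

theorem fusion_simple {G : Type*} [Group G] [Finite G] (hG : Cfsg.Spor.IsoMcL G) (S : Sylow 2 G) :
    (Cfsg.groupFusionSystem (S : Subgroup G)).IsSimple 2 := by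
  classical
  haveI : Fact (Nat.Prime 2) := ⟨Nat.prime_two⟩
  obtain ⟨e0⟩ := hG
  obtain ⟨e1⟩ := spor_mcl_equiv
  obtain ⟨-, -, ⟨e2⟩⟩ := mcl_model
  let e : G ≃* McLP := (e0.trans e1).trans e2
  let φ : G →* Perm (Fin 275) := McLP.subtype.comp e.toMonoidHom
  have hφ : Function.Injective φ := Subtype.val_injective.comp e.injective
  have hrange : ∀ p ∈ McLP, ∃ x, φ x = p := fun p hp => ⟨e.symm ⟨p, hp⟩, by simp [φ]⟩
  let U0 : Subgroup G := SylTwo.comap φ
  have hmap : U0.map φ = SylTwo := by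
    refine Subgroup.map_comap_eq_self fun p hp => ?_
    obtain ⟨x, hx⟩ := hrange p (syl_le hp)
    exact ⟨x, hx⟩
  have hcardU : Nat.card U0 = 128 := by
    rw [Nat.card_congr (U0.equivMapOfInjective φ hφ).toEquiv, hmap, syl_eq.2]
  have hcardG : Nat.card G = 898128000 := (Nat.card_congr e.toEquiv).trans mclP_card
  have hindex : U0.index = 7016625 := by
    have h := U0.card_mul_index
    rw [hcardU, hcardG] at h
    omega
  let U : Sylow 2 G := (IsPGroup.of_card (n := 7) (by rw [hcardU]; norm_num) : IsPGroup 2 U0).toSylow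
    (by rw [hindex]; decide)
  have hUU : (U : Subgroup G) = U0 := rfl
  refine CfsgLib.GroupSimple.isSimple_group U S (fun h => ?_) ?_ ?_
  · rw [hUU] at h
    rw [h, Subgroup.card_bot] at hcardU
    omega
  · rintro T ⟨hTU, hcl⟩ hne
    rw [hUU] at hTU hcl ⊢
    haveI : Nontrivial T := (Subgroup.nontrivial_iff_ne_bot T).mpr hne
    have hp2 : IsPGroup 2 ↥T := (IsPGroup.of_card (n := 7) (by rw [hcardU]; norm_num) : IsPGroup 2 U0).to_le hTU
    obtain ⟨k, hk⟩ := IsPGroup.iff_card.mp hp2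
    have h1 : 1 < Nat.card T := Finite.one_lt_card
    obtain ⟨x, hx⟩ := exists_prime_orderOf_dvd_card' (G := T) 2 (by
      rw [hk] at h1 ⊢
      exact dvd_pow_self 2 (by rintro rfl; simp at h1))
    have hx2 : orderOf (e (x : G)) = 2 := by rw [MulEquiv.orderOf_eq, Subgroup.orderOf_coe, hx]
    let K : Subgroup (Perm (Fin 275)) := T.map φ
    have hK : SylTwo ≤ K := gen_by_invols K fun u hu hu2 => by
      by_cases hu1 : u = 1
      · exact hu1 ▸ one_mem _
      · obtain ⟨y, hy⟩ := hrange u (syl_le hu)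
        have hy2 : orderOf (e y) = 2 := orderOf_eq_prime (by
            rw [pow_two]
            exact Subtype.ext ((congrArg₂ (· * ·) hy hy).trans hu2))
          fun h => hu1 (by rw [← hy]; exact congrArg Subtype.val h)
        obtain ⟨w, hw⟩ := isConj_iff.mp ((one_class _ hx2).trans (one_class _ hy2).symm)
        have hwy : e.symm w * (x : G) * (e.symm w)⁻¹ = y := e.injective (by simpa using hw)
        exact ⟨y, hwy ▸ hcl _ x.2 _ (show φ _ ∈ SylTwo by rw [hwy, hy]; exact hu), hy⟩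
    intro g hg
    obtain ⟨t, ht, hte⟩ := hK (show φ g ∈ SylTwo from hg)
    exact hφ hte ▸ ht
  · rw [hUU]
    intro n hn
    have hnU : n ∈ U0 := self_normalizing (e n).2 fun u => by
      constructor
      · intro hu
        obtain ⟨x, rfl⟩ := hrange u (syl_le hu)
        have h := (Subgroup.mem_normalizer_iff.mp hn x).mp hu
        rwa [Subgroup.mem_comap, map_mul, map_mul, map_inv] at h
      · intro hu
        have hm : u ∈ McLP := by
          have h0 : φ n ∈ McLP := (e n).2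
          have := McLP.mul_mem (McLP.mul_mem (McLP.inv_mem h0) (syl_le hu)) h0
          simpa [mul_assoc] using this
        obtain ⟨x, rfl⟩ := hrange u hm
        refine (Subgroup.mem_normalizer_iff.mp hn x).mpr ?_
        show φ (n * x * n⁻¹) ∈ SylTwo
        rwa [map_mul, map_mul, map_inv]
    refine Subgroup.subset_closure ⟨by rw [hUU]; exact hn, U0, by rw [hUU], by rw [hUU]; exact Subgroup.le_normalizer,
      by rw [hUU]; exact inf_le_left, Subgroup.subset_closure ⟨hn, ?_⟩⟩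
    obtain ⟨k, hk⟩ := (IsPGroup.of_card (n := 7) (by rw [hcardU]; norm_num) : IsPGroup 2 U0) ⟨n, hnU⟩
    obtain ⟨j, -, hj⟩ := (Nat.dvd_prime_pow Nat.prime_two).mp
      (orderOf_dvd_of_pow_eq_one (congrArg Subtype.val hk : n ^ 2 ^ k = 1))
    exact ⟨j, hj⟩

end CfsgLib.McLInvol
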